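import Mathlib

set_option linter.unusedSectionVars false
set_option linter.unusedVariables false
set_option linter.unusedSimpArgs false
set_option autoImplicit false
set_option linter.style.haveILetI false
set_option maxHeartbeats 400000

noncomputable section

namespace Groth.Agent.Lib.Helper6.GLatCover

variable (G : Type*) [Group G] (X : Type*) [MulAction G X]

/-- The permutation representation on functions `X → ℤ`. -/
def permRep : Representation ℤ G (X → ℤ) where
  toFun g := LinearMap.funLeft ℤ ℤ (fun x => g⁻¹ • x)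
  map_one' := by
    apply LinearMap.ext
    intro p
    funext x
    simp [LinearMap.funLeft_apply]
  map_mul' g g' := by
    apply LinearMap.ext
    intro p
    funext x
    simp [LinearMap.funLeft_apply, mul_smul]

variable {G X}

theorem permRep_apply (g : G) (p : X → ℤ) (x : X) : permRep G X g p x = p (g⁻¹ • x) := rfl

/-- values of a cocycle on the stabiliser vanish at the fixed point -/
theorem cocycle_stab_zero [Finite G] (H : Subgroup G) (f : H → (X → ℤ))
    (hf : ∀ a b : H, f (a * b) = f a + permRep G X a (f b)) (x₀ : X) (s : H)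
    (hs : (s : G) • x₀ = x₀) : f s x₀ = 0 := by
  have hs' : (s : G)⁻¹ • x₀ = x₀ := by
    rw [inv_smul_eq_iff, hs]
  have h1 : f 1 x₀ = 0 := by
    have := congrFun (hf 1 1) x₀
    rw [mul_one] at this
    simp only [Pi.add_apply, permRep_apply, OneMemClass.coe_one, inv_one, one_smul] at this
    omega
  have hpow : ∀ n : ℕ, f (s ^ n) x₀ = n * f s x₀ := by
    intro n
    induction n with
    | zero => simp [h1]
    | succ n ih =>
      rw [pow_succ']
      have := congrFun (hf s (s ^ n)) x₀
      simp only [Pi.add_apply, permRep_apply] at this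
      rw [this, hs', ih]
      push_cast
      ring
  have hfin : IsOfFinOrder s := isOfFinOrder_of_finite s
  have hn := hpow (orderOf s)
  rw [pow_orderOf_eq_one, h1] at hn
  have hpos : 0 < orderOf s := hfin.orderOf_pos
  have : (orderOf s : ℤ) ≠ 0 := by exact_mod_cast hpos.ne'
  exact (mul_eq_zero.1 hn.symm).resolve_left this

/-- `H¹(H, ℤ[X]) = 0` in cocycle form. -/
theorem permRep_H1 [Finite G] (H : Subgroup G) (f : H → (X → ℤ))
    (hf : ∀ a b : H, f (a * b) = f a + permRep G X a (f b)) :
    ∃ m : X → ℤ, ∀ a : H, f a = permRep G X a m - m := by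
  -- orbit representatives for the `H`-action
  let rep : X → X := fun x => (Quotient.out (Quotient.mk (MulAction.orbitRel H X) x))
  have hrep : ∀ x, ∃ δ : H, δ • x = rep x := by
    intro x
    have : (MulAction.orbitRel H X) (rep x) x := Quotient.mk_out (s := MulAction.orbitRel H X) x
    rw [MulAction.orbitRel_apply] at this
    exact this
  choose δ hδ using hrep
  have hrep_smul : ∀ (γ : H) (x : X), rep (γ • x) = rep x := by
    intro γ x
    have : Quotient.mk (MulAction.orbitRel H X) (γ • x) = Quotient.mk (MulAction.orbitRel H X) x := by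
      apply Quotient.sound
      show (MulAction.orbitRel H X) (γ • x) x
      rw [MulAction.orbitRel_apply]
      exact MulAction.mem_orbit x γ
    show Quotient.out _ = Quotient.out _
    rw [this]
  refine ⟨fun x => f (δ x) (rep x), fun a => ?_⟩
  funext x
  simp only [Pi.sub_apply, permRep_apply]
  -- notation
  have hax : (a : G)⁻¹ • x = (a⁻¹ : H) • x := rfl
  rw [hax]
  set x₀ := rep x with hx₀
  have hx₀' : rep ((a⁻¹ : H) • x) = x₀ := hrep_smul _ _
  rw [hx₀']
  set c := δ x with hc
  set c' := δ ((a⁻¹ : H) • x) with hc'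
  have hcx : c • x = x₀ := hδ x
  have hc'x : c' • ((a⁻¹ : H) • x) = x₀ := by rw [hδ, hx₀']
  -- s := c' a⁻¹ c⁻¹ stabilises x₀
  let s : H := c' * a⁻¹ * c⁻¹
  have hsx : (s : G) • x₀ = x₀ := by
    show s • x₀ = x₀
    rw [← hcx]
    show (c' * a⁻¹ * c⁻¹) • c • x = c • x
    rw [mul_smul, inv_smul_smul, mul_smul, hc'x, hcx]
  have hc'eq : c' = s * (c * a) := by
    show c' = c' * a⁻¹ * c⁻¹ * (c * a)
    group
  have h1 := congrFun (hf s (c * a)) x₀
  have h2 := congrFun (hf c a) x₀
  simp only [Pi.add_apply, permRep_apply] at h1 h2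
  have hs0 := cocycle_stab_zero H f hf x₀ s hsx
  have hsinv : (s : G)⁻¹ • x₀ = x₀ := by rw [inv_smul_eq_iff, hsx]
  have hcinv : (c : G)⁻¹ • x₀ = x := by
    rw [inv_smul_eq_iff]
    exact hcx.symm
  rw [hsinv, hs0, zero_add] at h1
  rw [hcinv] at h2
  rw [hc'eq, h1, h2]
  ring

end Groth.Agent.Lib.Helper6.GLatCover
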