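import Groth.Agent.Lib.Helper6.GLatCover.Cover

set_option linter.unusedSectionVars false
set_option linter.unusedVariables false
set_option linter.unusedSimpArgs false
set_option autoImplicit false
set_option linter.style.haveILetI false
set_option maxHeartbeats 400000

noncomputable section

namespace Groth.Agent.Lib.Helper6.GLatCover

open Classical

variable {G : Type} [Group G] [Finite G] {A : Type} [AddCommGroup A]
  [Module.Finite ℤ A] (ρ : Representation ℤ G A)

instance instFintypeXX : Fintype (XX ρ) := Fintype.ofFinite _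

/-- the covering map -/
def ππ : (XX ρ → ℤ) →ₗ[ℤ] A := Fintype.linearCombination ℤ (uu ρ)

theorem ππ_apply (p : XX ρ → ℤ) : ππ ρ p = ∑ x, p x • uu ρ x := by
  unfold ππ
  rw [Fintype.linearCombination_apply]

theorem permRep_single (g : G) (x : XX ρ) :
    permRep G (XX ρ) g (Pi.single x (1 : ℤ)) = Pi.single (g • x) (1 : ℤ) := by
  funext y
  rw [permRep_apply, Pi.single_apply, Pi.single_apply]
  by_cases h : y = g • x
  · rw [if_pos h, if_pos (by rw [h, inv_smul_smul])]
  · rw [if_neg h, if_neg (by rw [inv_smul_eq_iff]; exact h)]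

theorem ππ_single (x : XX ρ) : ππ ρ (Pi.single x (1 : ℤ)) = uu ρ x := by
  unfold ππ
  rw [Fintype.linearCombination_apply_single, one_smul]

theorem ππ_equivariant (g : G) (p : XX ρ → ℤ) :
    ππ ρ (permRep G (XX ρ) g p) = ρ g (ππ ρ p) := by
  rw [ππ_apply, ππ_apply, map_sum]
  rw [← Equiv.sum_comp (MulAction.toPerm g) (fun x => permRep G (XX ρ) g p x • uu ρ x)]
  apply Finset.sum_congr rfl
  intro x _
  rw [MulAction.toPerm_apply, permRep_apply, inv_smul_smul, uu_smul, LinearMap.map_smul]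

theorem inv_le_map (H : Subgroup G) :
    invSub ρ H ≤ Submodule.map (ππ ρ) (invSub (permRep G (XX ρ)) H) := by
  rw [← span_gens, Submodule.span_le]
  intro a ha
  refine ⟨Pi.single (mkX ρ H ⟨a, ha⟩ (QuotientGroup.mk 1)) (1 : ℤ), ?_, ?_⟩
  · intro h hh
    rw [permRep_single, smul_mkX, MulAction.Quotient.smul_mk, smul_eq_mul, mul_one]
    have : (QuotientGroup.mk h : G ⧸ H) = QuotientGroup.mk 1 := by
      rw [QuotientGroup.eq, mul_one]
      exact H.inv_mem hh
    rw [this]
  · rw [ππ_single, uu_mk, map_one, Module.End.one_apply]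

theorem ππ_surjective : Function.Surjective (ππ ρ) := by
  intro y
  have hy : y ∈ invSub ρ (⊥ : Subgroup G) := by
    intro h hh
    rw [Subgroup.mem_bot] at hh
    rw [hh, map_one, Module.End.one_apply]
  obtain ⟨p, -, hp⟩ := inv_le_map ρ ⊥ hy
  exact ⟨p, hp⟩

/-- the restricted representation on the kernel -/
def σσ : Representation ℤ G (LinearMap.ker (ππ ρ)) where
  toFun g := (permRep G (XX ρ) g).restrict (p := LinearMap.ker (ππ ρ)) (q := LinearMap.ker (ππ ρ))
    (by
      intro p hp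
      rw [LinearMap.mem_ker] at hp ⊢
      rw [ππ_equivariant, hp, map_zero])
  map_one' := by
    apply LinearMap.ext
    intro p
    apply Subtype.ext
    simp
  map_mul' g g' := by
    apply LinearMap.ext
    intro p
    apply Subtype.ext
    simp

theorem σσ_coe (g : G) (q : LinearMap.ker (ππ ρ)) :
    ((σσ ρ g q : LinearMap.ker (ππ ρ)) : XX ρ → ℤ) = permRep G (XX ρ) g q.1 := rfl

theorem coflasque (H : Subgroup G) (f : H → LinearMap.ker (ππ ρ))
    (hf : ∀ a b : H, f (a * b) = f a + σσ ρ a (f b)) :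
    ∃ m : LinearMap.ker (ππ ρ), ∀ a : H, f a = σσ ρ a m - m := by
  have hf' : ∀ a b : H, (f (a * b)).1 = (f a).1 + permRep G (XX ρ) a (f b).1 := by
    intro a b
    rw [hf a b]
    rfl
  obtain ⟨p, hp⟩ := permRep_H1 H (fun a => (f a).1) hf'
  have hπp : ππ ρ p ∈ invSub ρ H := by
    intro h hh
    have h1 := hp ⟨h, hh⟩
    have h2 : ππ ρ (f ⟨h, hh⟩).1 = 0 := (f ⟨h, hh⟩).2
    simp only at h1
    rw [h1, map_sub, ππ_equivariant, sub_eq_zero] at h2
    exact h2
  obtain ⟨p', hp'inv, hp'⟩ := inv_le_map ρ H hπp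
  have hq : p - p' ∈ LinearMap.ker (ππ ρ) := by
    rw [LinearMap.mem_ker, map_sub, hp', sub_self]
  refine ⟨⟨p - p', hq⟩, fun a => ?_⟩
  apply Subtype.ext
  show (f a).1 = permRep G (XX ρ) a (p - p') - (p - p')
  rw [map_sub, hp'inv a a.2, hp a]
  abel

theorem main_generic :
    ∃ (Q : Type) (_ : AddCommGroup Q) (mQ : Module ℤ Q) (P : Type) (_ : AddCommGroup P)
      (mP : Module ℤ P)
      (_ : Module.Finite ℤ Q) (_ : Module.Free ℤ Q) (_ : Module.Finite ℤ P) (_ : Module.Free ℤ P)
      (σ : Representation ℤ G Q) (τ : Representation ℤ G P) (i : Q →ₗ[ℤ] P) (π : P →ₗ[ℤ] A),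
      (∀ g m, i (σ g m) = τ g (i m)) ∧ (∀ g m, π (τ g m) = ρ g (π m)) ∧
      Function.Injective i ∧ Function.Surjective π ∧
      LinearMap.range i = LinearMap.ker π ∧
      (∃ (ι : Type) (b : Module.Basis ι ℤ P), ∀ (g : G) (i : ι), ∃ j : ι, τ g (b i) = b j) ∧
      (∀ (H : Subgroup G) (f : H → Q), (∀ a b : H, f (a * b) = f a + σ (a : G) (f b)) →
        ∃ m : Q, ∀ a : H, f a = σ (a : G) m - m) := by
  haveI : IsNoetherian ℤ (XX ρ → ℤ) := isNoetherian_of_isNoetherianRing_of_finite ℤ _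
  refine ⟨LinearMap.ker (ππ ρ), inferInstance, inferInstance, XX ρ → ℤ, inferInstance,
    inferInstance, inferInstance, ?_, inferInstance, inferInstance, σσ ρ, permRep G (XX ρ),
    (LinearMap.ker (ππ ρ)).subtype, ππ ρ, ?_, ?_, ?_, ?_, ?_, ?_, ?_⟩
  · exact Module.Free.of_basis (Submodule.basisOfPid (Pi.basisFun ℤ (XX ρ)) (LinearMap.ker (ππ ρ))).2
  · intro g m
    rfl
  · exact ππ_equivariant ρ
  · exact Subtype.val_injective
  · exact ππ_surjective ρ
  · exact Submodule.range_subtype _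
  · refine ⟨XX ρ, Pi.basisFun ℤ (XX ρ), fun g x => ⟨g • x, ?_⟩⟩
    rw [Pi.basisFun_apply, Pi.basisFun_apply]
    exact permRep_single ρ g x
  · exact coflasque ρ

end Groth.Agent.Lib.Helper6.GLatCover
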