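import Groth.Agent.Lib.Helper6.GLatCover.PermH1

set_option linter.unusedSectionVars false
set_option linter.unusedVariables false
set_option linter.unusedSimpArgs false
set_option autoImplicit false
set_option linter.style.haveILetI false
set_option maxHeartbeats 400000

noncomputable section

namespace Groth.Agent.Lib.Helper6.GLatCover

open Classical

variable {G : Type} [Group G] {A : Type} [AddCommGroup A]
  (ρ : Representation ℤ G A)

/-- The submodule of `H`-invariants. -/
def invSub {M : Type*} [AddCommGroup M] [Module ℤ M] (τ : Representation ℤ G M)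
    (H : Subgroup G) : Submodule ℤ M where
  carrier := {m | ∀ h ∈ H, τ h m = m}
  add_mem' := by
    intro a b ha hb h hh
    rw [map_add, ha h hh, hb h hh]
  zero_mem' := by
    intro h hh
    rw [map_zero]
  smul_mem' := by
    intro n a ha h hh
    rw [LinearMap.map_smul, ha h hh]

theorem mem_invSub {M : Type*} [AddCommGroup M] [Module ℤ M] (τ : Representation ℤ G M)
    (H : Subgroup G) (m : M) : m ∈ invSub τ H ↔ ∀ h ∈ H, τ h m = m := Iff.rfl

variable [Module.Finite ℤ A]

theorem invSub_fg (H : Subgroup G) : (invSub ρ H).FG := by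
  haveI : IsNoetherian ℤ A := isNoetherian_of_isNoetherianRing_of_finite ℤ A
  exact IsNoetherian.noetherian _

/-- A finite generating set of the invariants. -/
def gens (H : Subgroup G) : Finset A := (invSub_fg ρ H).choose

theorem span_gens (H : Subgroup G) : Submodule.span ℤ (gens ρ H : Set A) = invSub ρ H :=
  (invSub_fg ρ H).choose_spec

/-- The index `G`-set. -/
def XX : Type := Σ H : Subgroup G, ({a : A // a ∈ gens ρ H} × (G ⧸ H))

/-- constructor -/
def mkX (H : Subgroup G) (a : {a : A // a ∈ gens ρ H}) (q : G ⧸ H) : XX ρ := ⟨H, (a, q)⟩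

instance : SMul G (XX ρ) := ⟨fun g x => ⟨x.1, (x.2.1, g • x.2.2)⟩⟩

instance : MulAction G (XX ρ) where
  one_smul := by
    rintro ⟨H, a, q⟩
    show (⟨H, (a, (1 : G) • q)⟩ : XX ρ) = ⟨H, (a, q)⟩
    rw [one_smul]
  mul_smul := by
    rintro g g' ⟨H, a, q⟩
    show (⟨H, (a, (g * g') • q)⟩ : XX ρ) = ⟨H, (a, g • g' • q)⟩
    rw [mul_smul]

theorem smul_mkX (g : G) (H : Subgroup G) (a : {a : A // a ∈ gens ρ H}) (q : G ⧸ H) :
    g • mkX ρ H a q = mkX ρ H a (g • q) := rfl

instance [Finite G] : Finite (XX ρ) := by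
  haveI : Finite (Subgroup G) :=
    Finite.of_injective (fun H : Subgroup G => (H : Set G)) SetLike.coe_injective
  unfold XX
  infer_instance

theorem gens_invariant (H : Subgroup G) (a : {a : A // a ∈ gens ρ H}) (h : G) (hh : h ∈ H) :
    ρ h a.1 = a.1 := by
  have : a.1 ∈ invSub ρ H := by
    rw [← span_gens]
    exact Submodule.subset_span a.2
  exact this h hh

/-- the images of the basis vectors -/
def uu (x : XX ρ) : A :=
  Quotient.liftOn' x.2.2 (fun g => ρ g x.2.1.1) (by
    intro g₁ g₂ h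
    rw [QuotientGroup.leftRel_apply] at h
    have h2 := gens_invariant ρ x.1 x.2.1 _ h
    show ρ g₁ x.2.1.1 = ρ g₂ x.2.1.1
    have : g₂ = g₁ * (g₁⁻¹ * g₂) := by group
    rw [this, map_mul, Module.End.mul_apply, h2])

theorem uu_mk (H : Subgroup G) (a : {a : A // a ∈ gens ρ H}) (g : G) :
    uu ρ (mkX ρ H a (QuotientGroup.mk g : G ⧸ H)) = ρ g a.1 := rfl

theorem uu_smul (g : G) (x : XX ρ) : uu ρ (g • x) = ρ g (uu ρ x) := by
  obtain ⟨H, a, q⟩ := x
  induction q using Quotient.inductionOn' with
  | h g' =>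
    show uu ρ (mkX ρ H a (g • (QuotientGroup.mk g' : G ⧸ H))) = _
    rw [MulAction.Quotient.smul_mk, uu_mk]
    show _ = ρ g (uu ρ (mkX ρ H a (QuotientGroup.mk g' : G ⧸ H)))
    rw [uu_mk, smul_eq_mul, map_mul, Module.End.mul_apply]

end Groth.Agent.Lib.Helper6.GLatCover
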